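import Cfsg.Agent.Spor.OnUa.D0

set_option autoImplicit false
set_option maxRecDepth 100000000
set_option Elab.async false

namespace Cfsg.Agent.Spor.OnUa

theorem ok0 : Net.okb 10 n0 = true := by decide +kernel

theorem ok1 : Net.okb 10 n1 = true := by decide +kernel

theorem ok2 : Net.okb 10 n2 = true := by decide +kernel

theorem rel0 : T.rel 10 [1, 1, 1] 0 10 = true := by decide +kernel

theorem rel1 : T.rel 10 [2, 2, 2] 0 10 = true := by decide +kernel

theorem rel2 : T.rel 10 [3, 3, 3] 0 10 = true := by decide +kernel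

theorem rel3 : T.rel 10 [6, 4, 3, 1] 0 10 = true := by decide +kernel

theorem rel4 : T.rel 10 [6, 5, 6, 2, 3, 2] 0 10 = true := by decide +kernel

theorem rel5 : T.rel 10 [5, 4, 5, 4, 5, 1, 2, 1, 2, 1] 0 10 = true := by decide +kernel

theorem rel6 : T.rel 10 [4, 5, 3, 5, 1, 2, 6, 2] 0 10 = true := by decide +kernel

theorem rel7 : T.rel 10 [2, 1, 2, 1, 2, 1, 2, 1, 2, 1, 2, 1, 2, 1, 2, 1, 2, 1, 2, 1, 2, 1, 2, 1, 2, 1, 2, 1, 2, 1, 2, 1, 2, 1, 2, 1, 2, 1, 2, 1] 0 10 = true := by decide +kernel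

theorem hcov : T.treeCov (ones 720) L 1 = true := by decide +kernel

theorem hg : lall (fun z => band (memL L z) (band (sub (ones 720) (T.let z).cl) (T.closed (ones 720) z))) gs = true := by decide +kernel

theorem hivk : ivOk (2 * 0) EX IV = true := by decide +kernel

theorem hrt : RT.ok (2 * 0) EX RL = true := by decide +kernel

theorem hdefs : defs F 445 = true := by decide +kernel

noncomputable def st0_l : List Nat := [nat_lit 0x1c02, nat_lit 0x120000000002c03, nat_lit 0xe0000000001403, nat_lit 0x4780012800034000060000000000600015000248002cc09, nat_lit 0x48000128000340000600000000012000290003d8003e409, nat_lit 0x100002402, nat_lit 0x1380002c000020000280007405, nat_lit 0x1680003400002000058000cc05, nat_lit 0x1480002c00002000058000c405, nat_lit 0xd20002c0000680000400007000118001bc07, nat_lit 0xce0002b0000600000400005000108001a407, nat_lit 0xbe0002600005000004000050001080019407, nat_lit 0x538001800004c0000a0000080000e00025000398003bc09, nat_lit 0x570001a0000560000c0000080000e00025000398003c409,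 nat_lit 0x200002c02, nat_lit 0x1780003800004000048000ac05, nat_lit 0x1a80004000004000048000bc05, nat_lit 0x260000300002c03, nat_lit 0xec000380000900000c000090001580021407, nat_lit 0x2300005c00008000058000cc05, nat_lit 0xfe0003d0000a0000100000b0001880023c07, nat_lit 0x110000430000b0000100000b0001880024407, nat_lit 0x600004402, nat_lit 0x2600006c0000c000078000f405, nat_lit 0x288000740000c0000980011c05, nat_lit 0x2700006c0000c0000980011405, nat_lit 0xa00001d000030006f60002300037800e3007, nat_lit 0x700004c02, nat_lit 0x298000780000e0000880010405, nat_lit 0x4f0001540004200008000dec0004a00073000788005b409, nat_lit 0xa00006402, nat_lit 0x4a0000a00005c03, nat_lit 0xe0400164000480000a000e14000520007b0007c800e0809, nat_lit 0xb00006c02, nat_lit 0x500000b00006403, nat_lit 0x1380002c0038500015800e6005, nat_lit 0x56000198000560000c000e14000520007b0007e8005e409, nat_lit 0x16000034003850001580021405, nat_lit 0x16800034003850001780023405, nat_lit 0xe1c000380039700018800e2805,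 nat_lit 0x580001ac0005c0000e000df80007a000a5000988006a409, nat_lit 0x1e001cb800e7003, nat_lit 0x1a8000400039700019800e8005, nat_lit 0x1100009402, nat_lit 0x3a8000dc00022000138001e405, nat_lit 0x3a0000d800022000138001dc05, nat_lit 0x3c8000e800024000138001e405, nat_lit 0x16a000770001c800048000270003b8003d407, nat_lit 0x140000b402, nat_lit 0x80000140000bc03, nat_lit 0x7c000140000ac03, nat_lit 0x82000150000b403, nat_lit 0x8a000160000bc03, nat_lit 0x180000cc02, nat_lit 0x638002300008e00018000df00008a000af000a08006bc09, nat_lit 0x658002380009200019000df00008a000af000a08006c409, nat_lit 0x1a0000e402, nat_lit 0x1b0000ec02, nat_lit 0x9a0001b0000e403, nat_lit 0x2600006c003a700020800ec805, nat_lit 0x1280004e0000d80074e0003f000548004dc07, nat_lit 0x12a0004e0000d80074e00043000558004ec07, nat_lit 0x9e0001c0000ec03, nat_lit 0xea400078003b100022800eb005, nat_lit 0x132000520000f000762000470005880050c07, nat_lit 0x1f00010c02, nat_lit 0x2200011c02, nat_lit 0x2400013402, nat_lit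 0x5200016800048000258002ec05, nat_lit 0x4a001db800ef803, nat_lit 0xe480029c000c000026000edc000ae000d1000ae800e5409, nat_lit 0xf000009c003bd0002c800f1405, nat_lit 0x768003740015000061000140000a6000c5000a98006f409, nat_lit 0x2a00015c02, nat_lit 0x2c00016c02, nat_lit 0x39f00204000178000380001f0003080037407, nat_lit 0x3000018c02, nat_lit 0x360000c0003cd0003b800f5005, nat_lit 0x380000c4003cd0003c800f5805, nat_lit 0x378000c4003cd0003b8003dc05, nat_lit 0xe20003200019c03, nat_lit 0x330001ac02, nat_lit 0xe6000340001ac03, nat_lit 0x360001bc02, nat_lit 0xe34000dc003d1000388003b405, nat_lit 0x3a8000dc003d10003a8003cc05, nat_lit 0x3d30003c000e7400066003880020700034c07, nat_lit 0x3d0001fc02, nat_lit 0x5d0001f40007a0003e80040405, nat_lit 0x3a20007f0001e8007b60008700088800e9407, nat_lit 0x10a00041000e6000780003c90006280054c07, nat_lit 0x4300022402, nat_lit 0x18600087000218007c00010d000c280073c07, nat_lit 0x62800228000880004580045c05, nat_lit 0x44800110003e0000858010bc05,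 nat_lit 0x11800047000f94007400008c001ee00042407, nat_lit 0x11a00048000f94007400008c001f100045c07, nat_lit 0xf980031c0011800047000f94001260011d000cb800fa409, nat_lit 0x146001c000047800128000970009180067407, nat_lit 0x96001f5800fb803, nat_lit 0x1a000092000260007da000a30009780069c07, nat_lit 0x9a001f6800fd803, nat_lit 0x1340005200029c03, nat_lit 0xa4001d400049403, nat_lit 0x3f30009b0002a0007fa000ab0009d800fd007, nat_lit 0xae001d60004a403, nat_lit 0xb0001d50004bc03, nat_lit 0x14400058000ff800758003f80009280067c07, nat_lit 0x146000590002d403, nat_lit 0x5a0002e402, nat_lit 0x14a0005b0002e403, nat_lit 0x2e000802000bf001c880039405, nat_lit 0x5d0002f402, nat_lit 0x6300032c02, nat_lit 0x1560006400032c03, nat_lit 0x3280081a000cf001c780039c05, nat_lit 0x15a0006600033c03, nat_lit 0x15e0006900035403, nat_lit 0x3500081e003c7001e700107005, nat_lit 0x1050001b0004130006f80106405, nat_lit 0x1640006d00037403, nat_lit 0x1c8000b100036800826000e10020b8005bc07, nat_lit 0x7100039402,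 nat_lit 0x11a0001d000421001c600057c05, nat_lit 0x1700007a0003dc03, nat_lit 0x7c0003f402, nat_lit 0x7d0003fc02, nat_lit 0x1760007d0003f403, nat_lit 0x17a0007e0003fc03, nat_lit 0x3f8000f400081000848010e005, nat_lit 0x11f0001fc004290008380060405, nat_lit 0x8000040c02, nat_lit 0x17e0008200041c03, nat_lit 0x8500043402, nat_lit 0x1880008700044403, nat_lit 0x4400010c0008b0008b8010e805, nat_lit 0x122000220004310008a80062c05, nat_lit 0x8900045402, nat_lit 0x7480031800116001f1800e680083c004600022f00070409, nat_lit 0x124001f880111803, nat_lit 0x1c4001e58006a00026000449000d080075c07, nat_lit 0xfe80026400449000cf80114005, nat_lit 0x6a800264000a40001e000dfc0004200069001c700118809, nat_lit 0x9c0004f402, nat_lit 0x1140002880044f000d380110805, nat_lit 0x1b8000a60011680080400148002290006dc07, nat_lit 0x1540022e80117803, nat_lit 0x166002128005bc03, nat_lit 0xb40005ac02, nat_lit 0x1720023a8011e003, nat_lit 0x1760023b8011e803, nat_lit 0x182002178006f403, nat_lit 0x18c0021a00074403,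 nat_lit 0xc700064402, nat_lit 0x18e0023f80073403, nat_lit 0x1940024580074403, nat_lit 0xcb00066402, nat_lit 0x1d8000d200113000282001af001f30012bc07, nat_lit 0x1aa001fd8006cc03, nat_lit 0x1b40022880075403, nat_lit 0xdb0010fc02, nat_lit 0x1dc000df00127c003820048e000e90012ac07, nat_lit 0x1c2001e180072c03, nat_lit 0x708002b00015b0024b0012dc05, nat_lit 0xe300072402, nat_lit 0x4bd000e80006280091800437000de80102807, nat_lit 0xef00114802, nat_lit 0x1de0022a80115803, nat_lit 0xf100078402, nat_lit 0x790003c0004c70021f80067000244004410009380068c09, nat_lit 0xf400079402, nat_lit 0x7500033c001240004c00026c0024e001a30026600133809, nat_lit 0xf80007b402, nat_lit 0xf90007bc02, nat_lit 0xfa00133402, nat_lit 0x1f6000f200079c03, nat_lit 0xfc0007dc02, nat_lit 0x1fc000f30007a403, nat_lit 0xff0007ec02, nat_lit 0x10000134002, nat_lit 0x10100137002, nat_lit 0x202000f40007ac03, nat_lit 0x204000f50007800098e001b70024e0006e007, nat_lit 0x204000f5000780003bc001490020180116c07, nat_lit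 0x7680037400150000610010100017a004e80010200139009, nat_lit 0x6f0002a4000c400029000ee00017a004e80010200139009, nat_lit 0x1388009d4004c40025e8012c005, nat_lit 0x20a000f60007bc03, nat_lit 0x840003dc004cb000f38007ec05, nat_lit 0x212000f70007c403, nat_lit 0x10a00084402, nat_lit 0x850003dc004cb000f580081405, nat_lit 0x10d0013d002, nat_lit 0x21a0026980083c03, nat_lit 0x21a000f80007cc03, nat_lit 0x10f00087402, nat_lit 0x878003e4004cb000f580081c05, nat_lit 0x11200088402, nat_lit 0x1150008a402, nat_lit 0x1180013c802, nat_lit 0x8c0003f4001e6000f000132405, nat_lit 0x1190013bc02, nat_lit 0x2320026e801340003a80019e002488006b407, nat_lit 0x11b0008d402, nat_lit 0x11e0008ec02, nat_lit 0x242001060007b000996001e7000ff8008d407, nat_lit 0x12200090402, nat_lit 0x12400091c02, nat_lit 0x24a002798008bc03, nat_lit 0x12700093402, nat_lit 0x2500027b80142000a16004570022c8011b807, nat_lit 0x12900094402, nat_lit 0x2520027c80139c03, nat_lit 0x2580010c0007c000996001e7000ff8008dc07, nat_lit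 0x12e00096c02, nat_lit 0x25e0010e0007c800996001e5000fa80089c07, nat_lit 0x13000097c02, nat_lit 0x2600010e0007c800996001e9002680012e007, nat_lit 0x2600028000140c0040c004e4002760012a007, nat_lit 0x2660011000088c03, nat_lit 0x13400099c02, nat_lit 0x9a800444001f4000fb8008a405, nat_lit 0x26e0011100135c0034400126002228004b407, nat_lit 0x5980084e003ae00050000fd80025a00536001370014c009, nat_lit 0x13200099c00a70004a10023600130806, nat_lit 0x29d00099002, nat_lit 0x5330029c0005980084e00423002088011a807, nat_lit 0x1390009c402, nat_lit 0x274002828009a403, nat_lit 0x2740011200089c03, nat_lit 0x5f000204003df00042800e78008220046a0029f00150809, nat_lit 0x12f800982001b20024a8006d400a580052b0029480151009, nat_lit 0x4e400275002a30005f0009000042a000ba0005dc08, nat_lit 0x2a50009c802, nat_lit 0x2a500150402, nat_lit 0x13b0014a002, nat_lit 0x13d0009e402, nat_lit 0x27e001150007d8003ea00225002a600129c07, nat_lit 0x141000a0402, nat_lit 0x14300143c02, nat_lit 0x14400149002, nat_lit 0x2880011b00137c009e4002100010980093407,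 nat_lit 0xa300047400208000f600132c003ca001f5001108014f009, nat_lit 0x147000a3402, nat_lit 0x149000a4402, nat_lit 0xa480047800208000f600132c003d2002010011c800a2c09, nat_lit 0x158800aca0028a0011c001384003a80049b000eb80124809, nat_lit 0x14b000a5402, nat_lit 0x2980012000090c03, nat_lit 0x14d000a6402, nat_lit 0x14f000a7402, nat_lit 0x2a00028b800a6c03, nat_lit 0x153000a9402, nat_lit 0xac000a46001b90024e8012ec05, nat_lit 0x2b60012b00096403, nat_lit 0x15d000ae402, nat_lit 0xaf8004b8004ff0010e80097c00a5200544002a40012f809, nat_lit 0x2ac001260013e8004ba002bf002bd80070807, nat_lit 0x41000850000fd000bc800f0800af8002ac0028e000abc09, nat_lit 0x564002540010b0013d00049e002af002bf0005fc08, nat_lit 0x2c0000ac802, nat_lit 0xa70004880020c0026900085c004aa005820024180060409, nat_lit 0xe600161002, nat_lit 0x1900023f80161003, nat_lit 0x2a2001230008380041a002450014e80162007, nat_lit 0x2c000131000878009aa0021100125800aa407, nat_lit 0xb00004c400501001308014bc0030400485000c280073c09,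 nat_lit 0x58c002c78010c803, nat_lit 0x2c20029a8009e403, nat_lit 0x162000b0c02, nat_lit 0x2c40029a8009ec03, nat_lit 0x164000b1c02, nat_lit 0x167000b3402, nat_lit 0x169000b4402, nat_lit 0x16b000b5402, nat_lit 0x16d000b6402, nat_lit 0x2dc0013e0009fc03, nat_lit 0x16f00155402, nat_lit 0x2de0013f00141c00a680026a00136800b1c07, nat_lit 0x17000168802, nat_lit 0xb8000aaa004a6002a7800b3c05, nat_lit 0x2e2001400008b0009b6002290013c800b5c07, nat_lit 0x2e4002ab800b8c00b5a002d6002a9000b6c07, nat_lit 0x173000b9402, nat_lit 0x2e8001420014680055200591000c300062407, nat_lit 0x175000ba402, nat_lit 0x6600023800092001f20002440074800486002d90016d009, nat_lit 0x177000bb402, nat_lit 0x2f0002ae800aac03, nat_lit 0xbf000ad6005150011a0007f8009b0002290013c800b5409, nat_lit 0x183000c1402, nat_lit 0x3120015a000958004300021b0012d800ae407, nat_lit 0xc5000aee005250028880145000ad4002fd002de80167809, nat_lit 0x31a0015e000970009f60024d00155800c3407, nat_lit 0x31c002c9800b5400b78002fc002b6000bfc07,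 nat_lit 0xc7800b2e002db002d70016c005, nat_lit 0xc8000b32005a60016f00168805, nat_lit 0x191000c8402, nat_lit 0xc8800b32005a6002d28005e805, nat_lit 0x32600165000b3403, nat_lit 0xca8005a0005510012f000870009fc0025b0015c800c5c09, nat_lit 0x197000cb402, nat_lit 0xcb800b3a0032b002e9800c5800570005260015e800c6c09, nat_lit 0xcc8005b4005530016b8017080062800577002ad000bc409, nat_lit 0x19a00172802, nat_lit 0xcd000b50005ab002cd800ca405, nat_lit 0xce000b62005af002d0800cc405, nat_lit 0x19d0016d802, nat_lit 0xce800b6a005b3002438012240032a0050c00143800bb409, nat_lit 0x19e00178802, nat_lit 0xd10005e400561002af8014f400a080027100165800c9409, nat_lit 0x34600179000bd403, nat_lit 0x1a40017a002, nat_lit 0x3480017a000bdc03, nat_lit 0x1a6000d2c02, nat_lit 0xd30005ec0028e00289000a4400ace00493000eb00126809, nat_lit 0xbdc005f1000cf0012440035a0055800176800cfc08, nat_lit 0x2f9000d2802, nat_lit 0x17b400be80033e002dc000d0c05, nat_lit 0xd38005f0002940011f0013c40042a0025300158800c3c09, nat_lit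 0xd48006000056f002c30012d0003b0001a400225800fd409, nat_lit 0x1380009d8017e803, nat_lit 0x35400180000c0c03, nat_lit 0xd58006040029e00150800c1c05, nat_lit 0x1ae000d6c02, nat_lit 0xd7000610002a40028c800a8c00b16004ac001f38010f409, nat_lit 0x180800c0a0043c001f3000638002300042d0008d80064c09, nat_lit 0x12cc00b6e005b5002d980121c00912001930030300180809, nat_lit 0xd78006140057300184800d7400c10004b3002f000179009, nat_lit 0x360002e200175803, nat_lit 0x360001860016e800bb000332002d0800cc407, nat_lit 0x1b10017e002, nat_lit 0x364001870015d403, nat_lit 0x172001c1000ee800702001470021f80184807, nat_lit 0x362001b28018500094a0054f00166800ca407, nat_lit 0x1744006520061600308800d38005f0005680017d800d4409, nat_lit 0x36600188000c4c03, nat_lit 0xd7800614002a6001240013f0004b6002b9002e000186809, nat_lit 0x30e00182c02, nat_lit 0xda00063000579002e000186800c3e0033c002dc000d0409, nat_lit 0x36a002e4800cdc03, nat_lit 0xda80063c005950018e80171c005fc0057000182800d6409, nat_lit 0x62200312800d6000b7c00600001ab0017f807,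 nat_lit 0x1b600186402, nat_lit 0xdb800ba8005d70018d000af000a4e002bb0018c800da409, nat_lit 0x3100018a802, nat_lit 0x372002ee80185803, nat_lit 0x372002ed80173000b9e00474001c100066c07, nat_lit 0x3740019b000ce403, nat_lit 0xdd000c4e00354001a98017f005, nat_lit 0x376001a0000d0c03, nat_lit 0x37600316800db800ba80060c00307800dc407, nat_lit 0x378001a3000d1400bce0032400193800db407, nat_lit 0x47300238801194008ce0041a0028f001480005620030f002fc000d38005f0005680017d800d4400c500063a001bc0017a800bee006360031c800dc000bbc006320031a8012640076a0016c000780001c800048000060000180005400092000b3001c0000eec27, nat_lit 0x31880066800c7800170001ec00128806, nat_lit 0x62e0031f8005a003, nat_lit 0x3630032080101c03, nat_lit 0x30f003218005b403, nat_lit 0x2b100322800ed003, nat_lit 0x253003238004f003, nat_lit 0x215003248002a803, nat_lit 0x1ef003258002b403, nat_lit 0x1e3003268004fc03, nat_lit 0xef80193c02]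
theorem st0 : band (steps F IV RT base st0_l 445) (Nat.beq (Nat.add 445 (llen st0_l)) 809) = true := by decide +kernel

theorem rot1_1 : T.rot 1 [4] (sel (ones 720) ip1 1) = true := by decide +kernel

theorem rot1_1r : band (Rule.ok (2 * 0) EX RL ⟨1 :: [4], [], 8, false⟩) (lall (memL L) [4]) = true := by decide +kernel

theorem rot1_2 : T.rot 1 [1, 1] (sel (ones 720) ip1 2) = true := by decide +kernel

theorem rot1_2r : band (Rule.ok (2 * 0) EX RL ⟨1 :: [1, 1], [], 0, true⟩) (lall (memL L) [1, 1]) = true := by decide +kernel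

theorem rot1_3 : T.rot 1 [6, 4, 3] (sel (ones 720) ip1 3) = true := by decide +kernel

theorem rot1_3r : band (Rule.ok (2 * 0) EX RL ⟨1 :: [6, 4, 3], [0], 3, true⟩) (lall (memL L) [6, 4, 3]) = true := by decide +kernel

theorem rot1_4 : T.rot 1 [3, 4, 6] (sel (ones 720) ip1 4) = true := by decide +kernel

theorem rot1_4r : band (Rule.ok (2 * 0) EX RL ⟨1 :: [3, 4, 6], [4, 0], 3, false⟩) (lall (memL L) [3, 4, 6]) = true := by decide +kernel

theorem rot1_5 : T.rot 1 [2, 6, 2, 4, 5, 3, 5] (sel (ones 720) ip1 5) = true := by decide +kernel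

theorem rot1_5r : band (Rule.ok (2 * 0) EX RL ⟨1 :: [2, 6, 2, 4, 5, 3, 5], [2, 5, 2, 0], 6, true⟩) (lall (memL L) [2, 6, 2, 4, 5, 3, 5]) = true := by decide +kernel

theorem rot1_6 : T.rot 1 [5, 3, 5, 4, 2, 6, 2] (sel (ones 720) ip1 6) = true := by decide +kernel

theorem rot1_6r : band (Rule.ok (2 * 0) EX RL ⟨1 :: [5, 3, 5, 4, 2, 6, 2], [0], 6, false⟩) (lall (memL L) [5, 3, 5, 4, 2, 6, 2]) = true := by decide +kernel

theorem rot1_7 : T.rot 1 [2, 1, 2, 1, 5, 4, 5, 4, 5] (sel (ones 720) ip1 7) = true := by decide +kernel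

theorem rot1_7r : band (Rule.ok (2 * 0) EX RL ⟨1 :: [2, 1, 2, 1, 5, 4, 5, 4, 5], [0, 2, 0, 2, 0], 5, true⟩) (lall (memL L) [2, 1, 2, 1, 5, 4, 5, 4, 5]) = true := by decide +kernel

theorem rot1_8 : T.rot 1 [2, 1, 5, 4, 5, 4, 5, 1, 2] (sel (ones 720) ip1 8) = true := by decide +kernel

theorem rot1_8r : band (Rule.ok (2 * 0) EX RL ⟨1 :: [2, 1, 5, 4, 5, 4, 5, 1, 2], [0, 2, 0], 5, true⟩) (lall (memL L) [2, 1, 5, 4, 5, 4, 5, 1, 2]) = true := by decide +kernel

theorem rot1_9 : T.rot 1 [5, 4, 5, 4, 5, 1, 2, 1, 2] (sel (ones 720) ip1 9) = true := by decide +kernel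

theorem rot1_9r : band (Rule.ok (2 * 0) EX RL ⟨1 :: [5, 4, 5, 4, 5, 1, 2, 1, 2], [0], 5, true⟩) (lall (memL L) [5, 4, 5, 4, 5, 1, 2, 1, 2]) = true := by decide +kernel

theorem rot1_10 : T.rot 1 [2, 1, 2, 4, 5, 4, 5, 4, 2] (sel (ones 720) ip1 10) = true := by decide +kernel

theorem rot1_10r : band (Rule.ok (2 * 0) EX RL ⟨1 :: [2, 1, 2, 4, 5, 4, 5, 4, 2], [2, 0, 2, 0], 5, false⟩) (lall (memL L) [2, 1, 2, 4, 5, 4, 5, 4, 2]) = true := by decide +kernel

theorem rot1_11 : T.rot 1 [2, 4, 5, 4, 5, 4, 2, 1, 2] (sel (ones 720) ip1 11) = true := by decide +kernel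

theorem rot1_11r : band (Rule.ok (2 * 0) EX RL ⟨1 :: [2, 4, 5, 4, 5, 4, 2, 1, 2], [2, 0], 5, false⟩) (lall (memL L) [2, 4, 5, 4, 5, 4, 2, 1, 2]) = true := by decide +kernel

theorem cov1 : T.cover 1 [(sel (ones 720) ip1 1), (sel (ones 720) ip1 2), (sel (ones 720) ip1 3), (sel (ones 720) ip1 4), (sel (ones 720) ip1 5), (sel (ones 720) ip1 6), (sel (ones 720) ip1 7), (sel (ones 720) ip1 8), (sel (ones 720) ip1 9), (sel (ones 720) ip1 10), (sel (ones 720) ip1 11)] = true := by decide +kernel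

theorem tl1 : T.treeLt 10 1 = true := by decide +kernel

theorem rot2_1 : T.rot 2 [5] (sel (ones 720) ip2 1) = true := by decide +kernel

theorem rot2_1r : band (Rule.ok (2 * 0) EX RL ⟨2 :: [5], [], 8, false⟩) (lall (memL L) [5]) = true := by decide +kernel

theorem rot2_2 : T.rot 2 [2, 2] (sel (ones 720) ip2 2) = true := by decide +kernel

theorem rot2_2r : band (Rule.ok (2 * 0) EX RL ⟨2 :: [2, 2], [], 1, true⟩) (lall (memL L) [2, 2]) = true := by decide +kernel

theorem rot2_3 : T.rot 2 [3, 2, 6, 5, 6] (sel (ones 720) ip2 3) = true := by decide +kernel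

theorem rot2_3r : band (Rule.ok (2 * 0) EX RL ⟨2 :: [3, 2, 6, 5, 6], [2, 4, 2], 4, true⟩) (lall (memL L) [3, 2, 6, 5, 6]) = true := by decide +kernel

theorem rot2_4 : T.rot 2 [6, 5, 6, 2, 3] (sel (ones 720) ip2 4) = true := by decide +kernel

theorem rot2_4r : band (Rule.ok (2 * 0) EX RL ⟨2 :: [6, 5, 6, 2, 3], [2], 4, true⟩) (lall (memL L) [6, 5, 6, 2, 3]) = true := by decide +kernel

theorem rot2_5 : T.rot 2 [3, 5, 6, 5, 3] (sel (ones 720) ip2 5) = true := by decide +kernel

theorem rot2_5r : band (Rule.ok (2 * 0) EX RL ⟨2 :: [3, 5, 6, 5, 3], [4, 2], 4, false⟩) (lall (memL L) [3, 5, 6, 5, 3]) = true := by decide +kernel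

theorem rot2_6 : T.rot 2 [6, 2, 4, 5, 3, 5, 1] (sel (ones 720) ip2 6) = true := by decide +kernel

theorem rot2_6r : band (Rule.ok (2 * 0) EX RL ⟨2 :: [6, 2, 4, 5, 3, 5, 1], [2, 5, 2], 6, true⟩) (lall (memL L) [6, 2, 4, 5, 3, 5, 1]) = true := by decide +kernel

theorem rot2_7 : T.rot 2 [4, 5, 3, 5, 1, 2, 6] (sel (ones 720) ip2 7) = true := by decide +kernel

theorem rot2_7r : band (Rule.ok (2 * 0) EX RL ⟨2 :: [4, 5, 3, 5, 1, 2, 6], [2], 6, true⟩) (lall (memL L) [4, 5, 3, 5, 1, 2, 6]) = true := by decide +kernel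

theorem rot2_8 : T.rot 2 [6, 2, 1, 5, 3, 5, 4] (sel (ones 720) ip2 8) = true := by decide +kernel

theorem rot2_8r : band (Rule.ok (2 * 0) EX RL ⟨2 :: [6, 2, 1, 5, 3, 5, 4], [0, 2, 5, 2], 6, false⟩) (lall (memL L) [6, 2, 1, 5, 3, 5, 4]) = true := by decide +kernel

theorem rot2_9 : T.rot 2 [1, 5, 3, 5, 4, 2, 6] (sel (ones 720) ip2 9) = true := by decide +kernel

theorem rot2_9r : band (Rule.ok (2 * 0) EX RL ⟨2 :: [1, 5, 3, 5, 4, 2, 6], [0, 2], 6, false⟩) (lall (memL L) [1, 5, 3, 5, 4, 2, 6]) = true := by decide +kernel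

theorem rot2_10 : T.rot 2 [1, 2, 1, 5, 4, 5, 4, 5, 1] (sel (ones 720) ip2 10) = true := by decide +kernel

theorem rot2_10r : band (Rule.ok (2 * 0) EX RL ⟨2 :: [1, 2, 1, 5, 4, 5, 4, 5, 1], [0, 2, 0, 2], 5, true⟩) (lall (memL L) [1, 2, 1, 5, 4, 5, 4, 5, 1]) = true := by decide +kernel

theorem rot2_11 : T.rot 2 [1, 5, 4, 5, 4, 5, 1, 2, 1] (sel (ones 720) ip2 11) = true := by decide +kernel

theorem rot2_11r : band (Rule.ok (2 * 0) EX RL ⟨2 :: [1, 5, 4, 5, 4, 5, 1, 2, 1], [0, 2], 5, true⟩) (lall (memL L) [1, 5, 4, 5, 4, 5, 1, 2, 1]) = true := by decide +kernel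

theorem rot2_12 : T.rot 2 [1, 2, 1, 2, 4, 5, 4, 5, 4] (sel (ones 720) ip2 12) = true := by decide +kernel

theorem rot2_12r : band (Rule.ok (2 * 0) EX RL ⟨2 :: [1, 2, 1, 2, 4, 5, 4, 5, 4], [2, 0, 2, 0, 2], 5, false⟩) (lall (memL L) [1, 2, 1, 2, 4, 5, 4, 5, 4]) = true := by decide +kernel

theorem rot2_13 : T.rot 2 [1, 2, 4, 5, 4, 5, 4, 2, 1] (sel (ones 720) ip2 13) = true := by decide +kernel

theorem rot2_13r : band (Rule.ok (2 * 0) EX RL ⟨2 :: [1, 2, 4, 5, 4, 5, 4, 2, 1], [2, 0, 2], 5, false⟩) (lall (memL L) [1, 2, 4, 5, 4, 5, 4, 2, 1]) = true := by decide +kernel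

theorem rot2_14 : T.rot 2 [4, 5, 4, 5, 4, 2, 1, 2, 1] (sel (ones 720) ip2 14) = true := by decide +kernel

theorem rot2_14r : band (Rule.ok (2 * 0) EX RL ⟨2 :: [4, 5, 4, 5, 4, 2, 1, 2, 1], [2], 5, false⟩) (lall (memL L) [4, 5, 4, 5, 4, 2, 1, 2, 1]) = true := by decide +kernel

theorem cov2 : T.cover 2 [(sel (ones 720) ip2 1), (sel (ones 720) ip2 2), (sel (ones 720) ip2 3), (sel (ones 720) ip2 4), (sel (ones 720) ip2 5), (sel (ones 720) ip2 6), (sel (ones 720) ip2 7), (sel (ones 720) ip2 8), (sel (ones 720) ip2 9), (sel (ones 720) ip2 10), (sel (ones 720) ip2 11), (sel (ones 720) ip2 12), (sel (ones 720) ip2 13), (sel (ones 720) ip2 14)] = true := by decide +kernel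

theorem tl2 : T.treeLt 10 2 = true := by decide +kernel

theorem rot3_1 : T.rot 3 [6] (sel (ones 720) ip3 1) = true := by decide +kernel

theorem rot3_1r : band (Rule.ok (2 * 0) EX RL ⟨3 :: [6], [], 8, false⟩) (lall (memL L) [6]) = true := by decide +kernel

theorem rot3_2 : T.rot 3 [3, 3] (sel (ones 720) ip3 2) = true := by decide +kernel

theorem rot3_2r : band (Rule.ok (2 * 0) EX RL ⟨3 :: [3, 3], [], 2, true⟩) (lall (memL L) [3, 3]) = true := by decide +kernel

theorem rot3_3 : T.rot 3 [1, 6, 4] (sel (ones 720) ip3 3) = true := by decide +kernel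

theorem rot3_3r : band (Rule.ok (2 * 0) EX RL ⟨3 :: [1, 6, 4], [0, 4], 3, true⟩) (lall (memL L) [1, 6, 4]) = true := by decide +kernel

theorem rot3_4 : T.rot 3 [4, 6, 1] (sel (ones 720) ip3 4) = true := by decide +kernel

theorem rot3_4r : band (Rule.ok (2 * 0) EX RL ⟨3 :: [4, 6, 1], [4], 3, false⟩) (lall (memL L) [4, 6, 1]) = true := by decide +kernel

theorem rot3_5 : T.rot 3 [2, 6, 5, 6, 2] (sel (ones 720) ip3 5) = true := by decide +kernel

theorem rot3_5r : band (Rule.ok (2 * 0) EX RL ⟨3 :: [2, 6, 5, 6, 2], [2, 4], 4, true⟩) (lall (memL L) [2, 6, 5, 6, 2]) = true := by decide +kernel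

theorem rot3_6 : T.rot 3 [2, 3, 5, 6, 5] (sel (ones 720) ip3 6) = true := by decide +kernel

theorem rot3_6r : band (Rule.ok (2 * 0) EX RL ⟨3 :: [2, 3, 5, 6, 5], [4, 2, 4], 4, false⟩) (lall (memL L) [2, 3, 5, 6, 5]) = true := by decide +kernel

theorem rot3_7 : T.rot 3 [5, 6, 5, 3, 2] (sel (ones 720) ip3 7) = true := by decide +kernel

theorem rot3_7r : band (Rule.ok (2 * 0) EX RL ⟨3 :: [5, 6, 5, 3, 2], [4], 4, false⟩) (lall (memL L) [5, 6, 5, 3, 2]) = true := by decide +kernel

theorem rot3_8 : T.rot 3 [5, 1, 2, 6, 2, 4, 5] (sel (ones 720) ip3 8) = true := by decide +kernel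

theorem rot3_8r : band (Rule.ok (2 * 0) EX RL ⟨3 :: [5, 1, 2, 6, 2, 4, 5], [0, 2], 6, true⟩) (lall (memL L) [5, 1, 2, 6, 2, 4, 5]) = true := by decide +kernel

theorem rot3_9 : T.rot 3 [5, 4, 2, 6, 2, 1, 5] (sel (ones 720) ip3 9) = true := by decide +kernel

theorem rot3_9r : band (Rule.ok (2 * 0) EX RL ⟨3 :: [5, 4, 2, 6, 2, 1, 5], [2], 6, false⟩) (lall (memL L) [5, 4, 2, 6, 2, 1, 5]) = true := by decide +kernel

theorem cov3 : T.cover 3 [(sel (ones 720) ip3 1), (sel (ones 720) ip3 2), (sel (ones 720) ip3 3), (sel (ones 720) ip3 4), (sel (ones 720) ip3 5), (sel (ones 720) ip3 6), (sel (ones 720) ip3 7), (sel (ones 720) ip3 8), (sel (ones 720) ip3 9)] = true := by decide +kernel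

theorem tl3 : T.treeLt 10 3 = true := by decide +kernel

theorem rot4_1 : T.rot 4 [1] (sel (ones 720) ip4 1) = true := by decide +kernel

theorem rot4_1r : band (Rule.ok (2 * 0) EX RL ⟨4 :: [1], [], 8, false⟩) (lall (memL L) [1]) = true := by decide +kernel

theorem rot4_2 : T.rot 4 [4, 4] (sel (ones 720) ip4 2) = true := by decide +kernel

theorem rot4_2r : band (Rule.ok (2 * 0) EX RL ⟨4 :: [4, 4], [], 0, false⟩) (lall (memL L) [4, 4]) = true := by decide +kernel

theorem rot4_3 : T.rot 4 [3, 1, 6] (sel (ones 720) ip4 3) = true := by decide +kernel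

theorem rot4_3r : band (Rule.ok (2 * 0) EX RL ⟨4 :: [3, 1, 6], [4], 3, true⟩) (lall (memL L) [3, 1, 6]) = true := by decide +kernel

theorem rot4_4 : T.rot 4 [6, 1, 3] (sel (ones 720) ip4 4) = true := by decide +kernel

theorem rot4_4r : band (Rule.ok (2 * 0) EX RL ⟨4 :: [6, 1, 3], [], 3, false⟩) (lall (memL L) [6, 1, 3]) = true := by decide +kernel

theorem rot4_5 : T.rot 4 [5, 3, 5, 1, 2, 6, 2] (sel (ones 720) ip4 5) = true := by decide +kernel

theorem rot4_5r : band (Rule.ok (2 * 0) EX RL ⟨4 :: [5, 3, 5, 1, 2, 6, 2], [], 6, true⟩) (lall (memL L) [5, 3, 5, 1, 2, 6, 2]) = true := by decide +kernel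

theorem rot4_6 : T.rot 4 [2, 6, 2, 1, 5, 3, 5] (sel (ones 720) ip4 6) = true := by decide +kernel

theorem rot4_6r : band (Rule.ok (2 * 0) EX RL ⟨4 :: [2, 6, 2, 1, 5, 3, 5], [2, 5, 2], 6, false⟩) (lall (memL L) [2, 6, 2, 1, 5, 3, 5]) = true := by decide +kernel

theorem rot4_7 : T.rot 4 [5, 4, 5, 1, 2, 1, 2, 1, 5] (sel (ones 720) ip4 7) = true := by decide +kernel

theorem rot4_7r : band (Rule.ok (2 * 0) EX RL ⟨4 :: [5, 4, 5, 1, 2, 1, 2, 1, 5], [2], 5, true⟩) (lall (memL L) [5, 4, 5, 1, 2, 1, 2, 1, 5]) = true := by decide +kernel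

theorem rot4_8 : T.rot 4 [5, 1, 2, 1, 2, 1, 5, 4, 5] (sel (ones 720) ip4 8) = true := by decide +kernel

theorem rot4_8r : band (Rule.ok (2 * 0) EX RL ⟨4 :: [5, 1, 2, 1, 2, 1, 5, 4, 5], [2, 0, 2], 5, true⟩) (lall (memL L) [5, 1, 2, 1, 2, 1, 5, 4, 5]) = true := by decide +kernel

theorem rot4_9 : T.rot 4 [5, 4, 5, 4, 2, 1, 2, 1, 2] (sel (ones 720) ip4 9) = true := by decide +kernel

theorem rot4_9r : band (Rule.ok (2 * 0) EX RL ⟨4 :: [5, 4, 5, 4, 2, 1, 2, 1, 2], [], 5, false⟩) (lall (memL L) [5, 4, 5, 4, 2, 1, 2, 1, 2]) = true := by decide +kernel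

theorem rot4_10 : T.rot 4 [5, 4, 2, 1, 2, 1, 2, 4, 5] (sel (ones 720) ip4 10) = true := by decide +kernel

theorem rot4_10r : band (Rule.ok (2 * 0) EX RL ⟨4 :: [5, 4, 2, 1, 2, 1, 2, 4, 5], [0, 2], 5, false⟩) (lall (memL L) [5, 4, 2, 1, 2, 1, 2, 4, 5]) = true := by decide +kernel

theorem rot4_11 : T.rot 4 [2, 1, 2, 1, 2, 4, 5, 4, 5] (sel (ones 720) ip4 11) = true := by decide +kernel

theorem rot4_11r : band (Rule.ok (2 * 0) EX RL ⟨4 :: [2, 1, 2, 1, 2, 4, 5, 4, 5], [0, 2, 0, 2], 5, false⟩) (lall (memL L) [2, 1, 2, 1, 2, 4, 5, 4, 5]) = true := by decide +kernel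

theorem ep0a : T.treePath [2, 1, 2, 3] (Nat.shiftLeft 1 120) 1 = true := by decide +kernel

theorem ep0b : T.treePath [1, 5, 4, 6, 2] (Nat.shiftLeft 1 295) 1 = true := by decide +kernel

theorem ep0c : band (lall (fun z => Nat.ble z 255) ([2, 1, 2, 3] ++ 4 :: [5, 3, 1, 2, 4])) (concl F IV 809 0x80004400086000ad0009f80194000168000480000a0000080a (encA ([2, 1, 2, 3] ++ 4 :: [5, 3, 1, 2, 4]) 0)) = true := by decide +kernel

theorem ep0d : band (Rule.ok (2 * 0) EX [] ⟨lapp [1, 5, 4, 6, 2] [5, 3, 1, 2, 4], [], 0, false⟩) (band (lall (memL L) [2, 1, 2, 3]) (lall (memL L) [1, 5, 4, 6, 2])) = true := by decide +kernel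

theorem cov4 : T.cover 4 [(sel (ones 720) ip4 1), (sel (ones 720) ip4 2), (sel (ones 720) ip4 3), (sel (ones 720) ip4 4), (sel (ones 720) ip4 5), (sel (ones 720) ip4 6), (sel (ones 720) ip4 7), (sel (ones 720) ip4 8), (sel (ones 720) ip4 9), (sel (ones 720) ip4 10), (sel (ones 720) ip4 11), (Nat.shiftLeft 1 120)] = true := by decide +kernel

theorem tl4 : T.treeLt 10 4 = true := by decide +kernel

theorem rot5_1 : T.rot 5 [2] (sel (ones 720) ip5 1) = true := by decide +kernel

theorem rot5_1r : band (Rule.ok (2 * 0) EX RL ⟨5 :: [2], [], 8, false⟩) (lall (memL L) [2]) = true := by decide +kernel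

theorem rot5_2 : T.rot 5 [5, 5] (sel (ones 720) ip5 2) = true := by decide +kernel

theorem rot5_2r : band (Rule.ok (2 * 0) EX RL ⟨5 :: [5, 5], [], 1, false⟩) (lall (memL L) [5, 5]) = true := by decide +kernel

theorem rot5_3 : T.rot 5 [6, 2, 3, 2, 6] (sel (ones 720) ip5 3) = true := by decide +kernel

theorem rot5_3r : band (Rule.ok (2 * 0) EX RL ⟨5 :: [6, 2, 3, 2, 6], [4], 4, true⟩) (lall (memL L) [6, 2, 3, 2, 6]) = true := by decide +kernel

theorem rot5_4 : T.rot 5 [6, 5, 3, 2, 3] (sel (ones 720) ip5 4) = true := by decide +kernel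

theorem rot5_4r : band (Rule.ok (2 * 0) EX RL ⟨5 :: [6, 5, 3, 2, 3], [], 4, false⟩) (lall (memL L) [6, 5, 3, 2, 3]) = true := by decide +kernel

theorem rot5_5 : T.rot 5 [3, 2, 3, 5, 6] (sel (ones 720) ip5 5) = true := by decide +kernel

theorem rot5_5r : band (Rule.ok (2 * 0) EX RL ⟨5 :: [3, 2, 3, 5, 6], [2, 4], 4, false⟩) (lall (memL L) [3, 2, 3, 5, 6]) = true := by decide +kernel

theorem rot5_6 : T.rot 5 [3, 5, 1, 2, 6, 2, 4] (sel (ones 720) ip5 6) = true := by decide +kernel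

theorem rot5_6r : band (Rule.ok (2 * 0) EX RL ⟨5 :: [3, 5, 1, 2, 6, 2, 4], [0], 6, true⟩) (lall (memL L) [3, 5, 1, 2, 6, 2, 4]) = true := by decide +kernel

theorem rot5_7 : T.rot 5 [1, 2, 6, 2, 4, 5, 3] (sel (ones 720) ip5 7) = true := by decide +kernel

theorem rot5_7r : band (Rule.ok (2 * 0) EX RL ⟨5 :: [1, 2, 6, 2, 4, 5, 3], [0, 2, 5], 6, true⟩) (lall (memL L) [1, 2, 6, 2, 4, 5, 3]) = true := by decide +kernel

theorem rot5_8 : T.rot 5 [3, 5, 4, 2, 6, 2, 1] (sel (ones 720) ip5 8) = true := by decide +kernel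

theorem rot5_8r : band (Rule.ok (2 * 0) EX RL ⟨5 :: [3, 5, 4, 2, 6, 2, 1], [], 6, false⟩) (lall (memL L) [3, 5, 4, 2, 6, 2, 1]) = true := by decide +kernel

theorem rot5_9 : T.rot 5 [4, 2, 6, 2, 1, 5, 3] (sel (ones 720) ip5 9) = true := by decide +kernel

theorem rot5_9r : band (Rule.ok (2 * 0) EX RL ⟨5 :: [4, 2, 6, 2, 1, 5, 3], [2, 5], 6, false⟩) (lall (memL L) [4, 2, 6, 2, 1, 5, 3]) = true := by decide +kernel

theorem rot5_10 : T.rot 5 [4, 5, 4, 5, 1, 2, 1, 2, 1] (sel (ones 720) ip5 10) = true := by decide +kernel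

theorem rot5_10r : band (Rule.ok (2 * 0) EX RL ⟨5 :: [4, 5, 4, 5, 1, 2, 1, 2, 1], [], 5, true⟩) (lall (memL L) [4, 5, 4, 5, 1, 2, 1, 2, 1]) = true := by decide +kernel

theorem rot5_11 : T.rot 5 [4, 5, 1, 2, 1, 2, 1, 5, 4] (sel (ones 720) ip5 11) = true := by decide +kernel

theorem rot5_11r : band (Rule.ok (2 * 0) EX RL ⟨5 :: [4, 5, 1, 2, 1, 2, 1, 5, 4], [2, 0], 5, true⟩) (lall (memL L) [4, 5, 1, 2, 1, 2, 1, 5, 4]) = true := by decide +kernel

theorem rot5_12 : T.rot 5 [1, 2, 1, 2, 1, 5, 4, 5, 4] (sel (ones 720) ip5 12) = true := by decide +kernel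

theorem rot5_12r : band (Rule.ok (2 * 0) EX RL ⟨5 :: [1, 2, 1, 2, 1, 5, 4, 5, 4], [2, 0, 2, 0], 5, true⟩) (lall (memL L) [1, 2, 1, 2, 1, 5, 4, 5, 4]) = true := by decide +kernel

theorem rot5_13 : T.rot 5 [4, 5, 4, 2, 1, 2, 1, 2, 4] (sel (ones 720) ip5 13) = true := by decide +kernel

theorem rot5_13r : band (Rule.ok (2 * 0) EX RL ⟨5 :: [4, 5, 4, 2, 1, 2, 1, 2, 4], [0], 5, false⟩) (lall (memL L) [4, 5, 4, 2, 1, 2, 1, 2, 4]) = true := by decide +kernel

theorem rot5_14 : T.rot 5 [4, 2, 1, 2, 1, 2, 4, 5, 4] (sel (ones 720) ip5 14) = true := by decide +kernel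

theorem rot5_14r : band (Rule.ok (2 * 0) EX RL ⟨5 :: [4, 2, 1, 2, 1, 2, 4, 5, 4], [0, 2, 0], 5, false⟩) (lall (memL L) [4, 2, 1, 2, 1, 2, 4, 5, 4]) = true := by decide +kernel

theorem cov5 : T.cover 5 [(sel (ones 720) ip5 1), (sel (ones 720) ip5 2), (sel (ones 720) ip5 3), (sel (ones 720) ip5 4), (sel (ones 720) ip5 5), (sel (ones 720) ip5 6), (sel (ones 720) ip5 7), (sel (ones 720) ip5 8), (sel (ones 720) ip5 9), (sel (ones 720) ip5 10), (sel (ones 720) ip5 11), (sel (ones 720) ip5 12), (sel (ones 720) ip5 13), (sel (ones 720) ip5 14)] = true := by decide +kernel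

theorem tl5 : T.treeLt 10 5 = true := by decide +kernel

theorem rot6_1 : T.rot 6 [3] (sel (ones 720) ip6 1) = true := by decide +kernel

theorem rot6_1r : band (Rule.ok (2 * 0) EX RL ⟨6 :: [3], [], 8, false⟩) (lall (memL L) [3]) = true := by decide +kernel

theorem rot6_2 : T.rot 6 [6, 6] (sel (ones 720) ip6 2) = true := by decide +kernel

theorem rot6_2r : band (Rule.ok (2 * 0) EX RL ⟨6 :: [6, 6], [], 2, false⟩) (lall (memL L) [6, 6]) = true := by decide +kernel

theorem rot6_3 : T.rot 6 [4, 3, 1] (sel (ones 720) ip6 3) = true := by decide +kernel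

theorem rot6_3r : band (Rule.ok (2 * 0) EX RL ⟨6 :: [4, 3, 1], [], 3, true⟩) (lall (memL L) [4, 3, 1]) = true := by decide +kernel

theorem rot6_4 : T.rot 6 [1, 3, 4] (sel (ones 720) ip6 4) = true := by decide +kernel

theorem rot6_4r : band (Rule.ok (2 * 0) EX RL ⟨6 :: [1, 3, 4], [0], 3, false⟩) (lall (memL L) [1, 3, 4]) = true := by decide +kernel

theorem rot6_5 : T.rot 6 [5, 6, 2, 3, 2] (sel (ones 720) ip6 5) = true := by decide +kernel

theorem rot6_5r : band (Rule.ok (2 * 0) EX RL ⟨6 :: [5, 6, 2, 3, 2], [], 4, true⟩) (lall (memL L) [5, 6, 2, 3, 2]) = true := by decide +kernel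

theorem rot6_6 : T.rot 6 [2, 3, 2, 6, 5] (sel (ones 720) ip6 6) = true := by decide +kernel

theorem rot6_6r : band (Rule.ok (2 * 0) EX RL ⟨6 :: [2, 3, 2, 6, 5], [4, 2], 4, true⟩) (lall (memL L) [2, 3, 2, 6, 5]) = true := by decide +kernel

theorem rot6_7 : T.rot 6 [5, 3, 2, 3, 5] (sel (ones 720) ip6 7) = true := by decide +kernel

theorem rot6_7r : band (Rule.ok (2 * 0) EX RL ⟨6 :: [5, 3, 2, 3, 5], [2], 4, false⟩) (lall (memL L) [5, 3, 2, 3, 5]) = true := by decide +kernel

theorem rot6_8 : T.rot 6 [2, 4, 5, 3, 5, 1, 2] (sel (ones 720) ip6 8) = true := by decide +kernel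

theorem rot6_8r : band (Rule.ok (2 * 0) EX RL ⟨6 :: [2, 4, 5, 3, 5, 1, 2], [2, 5], 6, true⟩) (lall (memL L) [2, 4, 5, 3, 5, 1, 2]) = true := by decide +kernel

theorem rot6_9 : T.rot 6 [2, 1, 5, 3, 5, 4, 2] (sel (ones 720) ip6 9) = true := by decide +kernel

theorem rot6_9r : band (Rule.ok (2 * 0) EX RL ⟨6 :: [2, 1, 5, 3, 5, 4, 2], [0, 2, 5], 6, false⟩) (lall (memL L) [2, 1, 5, 3, 5, 4, 2]) = true := by decide +kernel

theorem cov6 : T.cover 6 [(sel (ones 720) ip6 1), (sel (ones 720) ip6 2), (sel (ones 720) ip6 3), (sel (ones 720) ip6 4), (sel (ones 720) ip6 5), (sel (ones 720) ip6 6), (sel (ones 720) ip6 7), (sel (ones 720) ip6 8), (sel (ones 720) ip6 9)] = true := by decide +kernel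

theorem tl6 : T.treeLt 10 6 = true := by decide +kernel

end Cfsg.Agent.Spor.OnUa
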